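import Groth.Agent.HypLib.LinForm
import Groth.Agent.HypLib.CompCoord
import Groth.Agent.Coherent.SecBridge
import Groth.Agent.AlgGrpLib.AffineCombination
import Groth.Agent.UPLib.ProjSpace
import Groth.Agent.ProjLib.ProjSpace
import Groth.Agent.PnEmb.Segre

/-!
# Linear automorphisms of projective space by sections of `O(1)`
-/

set_option autoImplicit false
set_option linter.unusedSectionVars false
set_option backward.isDefEq.respectTransparency.types false
set_option maxHeartbeats 1000000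

universe u

open AlgebraicGeometry CategoryTheory TopologicalSpace Opposite
open Groth.Agent.Coherent Groth.Agent.PicLib Groth.Agent.AmpleLib

namespace Groth.Agent.ProjLin5

variable {k : Type u} [Field k] {n : ℕ} {X Y : Scheme.{u}}

/-- `O(1)`. -/
noncomputable abbrev O1 (n : ℕ) (k : Type u) [Field k] : (CohB1.ProjSpace n k).Modules :=
  Twist.twistProjSpace n k 1

theorem pullSec_injective_of_iso (φ : X ≅ Y) (M : Y.Modules) :
    Function.Injective (fun m : Γ(M, ⊤) => PicLib.pullSec φ.hom (U := ⊤) m) := by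
  intro a b h
  obtain ⟨c, hc⟩ := RelVALib.exists_compIso φ.inv φ.hom (𝟙 Y) φ.inv_hom_id M
  obtain ⟨j, hj⟩ := HypLib.exists_iso_id M
  have key : ∀ m : Γ(M, ⊤), c.hom.app ⊤ (j.hom.app ⊤ m) =
      PicLib.pullSec φ.inv (U := ⊤) (PicLib.pullSec φ.hom (U := ⊤) m) := fun m => by
    rw [hj m]
    exact (hc ⊤ m le_rfl).trans (resM_self _ _ _)
  have h2 : (j ≪≫ c).hom.app ⊤ a = (j ≪≫ c).hom.app ⊤ b :=
    (key a).trans ((congrArg (fun t => PicLib.pullSec φ.inv (U := ⊤) t) h).trans (key b).symm)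
  exact app_injective_of_mono (j ≪≫ c).hom ⊤ h2

theorem toGlobal_comp {q : Y ⟶ Spec (CommRingCat.of k)} {p : X ⟶ Spec (CommRingCat.of k)} (φ : X ⟶ Y)
    (h : φ ≫ q = p) (a : k) : φ.appTop (ProjUP.toGlobal q a) = ProjUP.toGlobal p a := by
  subst h
  show _ = ((φ ≫ q).appTop) _
  rw [Scheme.Hom.comp_appTop]
  rfl

/-- The pullback of linear forms, followed by an isomorphism. -/
noncomputable def lin (r : X ⟶ CohB1.ProjSpace n k) {q : X ⟶ Spec (CommRingCat.of k)}
    (hr : r ≫ CohB1.ProjSpace.toSpec n k = q) {L : X.Modules} (τ : (Scheme.Modules.pullback r).obj (O1 n k) ≅ L) :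
    (Fin (n + 1) → k) →ₗ[k] GA (ProjUP.toGlobal q) L where
  toFun c := τ.hom.app ⊤ (ProjUP.pullSec r _ (HypLib.lsec n c))
  map_add' c d := by
    refine (congrArg (fun t => τ.hom.app ⊤ t) ((congrArg _ (HypLib.lsec_add n c d)).trans (map_add _ _ _))).trans ?_
    exact map_add _ _ _
  map_smul' a c := by
    refine (congrArg (fun t => τ.hom.app ⊤ t) (HypLib.pullSec_lsec_smul n r a c)).trans ?_
    rw [hr]
    exact Scheme.Modules.Hom.app_smul _ _ _

theorem lin_single (r : X ⟶ CohB1.ProjSpace n k) {q : X ⟶ Spec (CommRingCat.of k)}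
    (hr : r ≫ CohB1.ProjSpace.toSpec n k = q) {L : X.Modules} (τ : (Scheme.Modules.pullback r).obj (O1 n k) ≅ L)
    (i : Fin (n + 1)) : lin r hr τ (Pi.single i 1) = τ.hom.app ⊤ (ProjUP.pullSec r _ (ProjUP.coord n k i)) :=
  congrArg (fun t => τ.hom.app ⊤ (ProjUP.pullSec r _ t)) (HypLib.lsec_single n i)

theorem lsec_injective : Function.Injective (HypLib.lsec n : (Fin (n + 1) → k) → _) := by
  intro c d h
  have hone : CohB1.polyGrading n k 1 ≠ ⊥ := fun h =>
    MvPolynomial.X_ne_zero (R := k) (0 : Fin (n + 1))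
      ((Submodule.mem_bot k).1 (h ▸ MvPolynomial.isHomogeneous_X k (0 : Fin (n + 1))))
  have hmul : ∀ i : ℕ, CohB1.polyGrading n k 1 * CohB1.polyGrading n k i = CohB1.polyGrading n k (i + 1) := fun i => by
    show MvPolynomial.homogeneousSubmodule _ _ 1 * MvPolynomial.homogeneousSubmodule _ _ i = _
    rw [← MvPolynomial.homogeneousSubmodule_one_pow (σ := Fin (n + 1)) (R := k) i, ← pow_succ', MvPolynomial.homogeneousSubmodule_one_pow]
  have h1 := congrArg Subtype.val ((TwistDom24.globalOf_bijective (𝒜 := CohB1.polyGrading n k) hmul hone 1).1 h)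
  funext i
  have h2 := congrArg (MvPolynomial.coeff (Finsupp.single i 1)) h1
  simpa [UPLib.linForm, Module.Basis.constr_apply_fintype, MvPolynomial.coeff_sum, MvPolynomial.coeff_smul,
    MvPolynomial.coeff_X', Finsupp.single_left_inj] using h2

theorem lin_injective_of_hnd (r : X ⟶ CohB1.ProjSpace n k) {q : X ⟶ Spec (CommRingCat.of k)}
    (hr : r ≫ CohB1.ProjSpace.toSpec n k = q) {L : X.Modules} (τ : (Scheme.Modules.pullback r).obj (O1 n k) ≅ L)
    (hnd : Function.Injective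
      (((Scheme.Modules.pullbackPushforwardAdjunction r).unit.app (O1 n k)).app ⊤)) :
    Function.Injective (lin r hr τ) :=
  fun _ _ h => lsec_injective (hnd (app_injective_of_mono τ.hom ⊤ h))

/-- The identity isomorphism of `O(1)`, with linear forms going to linear forms. -/
theorem exists_lin_id : ∃ τ : (Scheme.Modules.pullback (𝟙 (CohB1.ProjSpace n k))).obj (O1 n k) ≅ O1 n k,
    ∀ c, lin (𝟙 _) (Category.id_comp _) τ c = HypLib.lsec n c := by
  obtain ⟨j, hj⟩ := HypLib.exists_iso_id (O1 n k)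
  refine ⟨j.symm, fun c => ?_⟩
  show j.inv.app ⊤ (PicLib.pullSec (𝟙 _) (U := ⊤) (HypLib.lsec n c)) = _
  rw [← hj]
  show (j.hom ≫ j.inv).app ⊤ _ = _
  rw [j.hom_inv_id]
  rfl

/-- Linear forms along the composite with a morphism given by linear forms. -/
theorem exists_lin_comp (r : X ⟶ CohB1.ProjSpace n k) {q : X ⟶ Spec (CommRingCat.of k)}
    (hr : r ≫ CohB1.ProjSpace.toSpec n k = q) {L : X.Modules} (τ : (Scheme.Modules.pullback r).obj (O1 n k) ≅ L)
    (σ : CohB1.ProjSpace n k ⟶ CohB1.ProjSpace n k)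
    (hσ : σ ≫ CohB1.ProjSpace.toSpec n k = CohB1.ProjSpace.toSpec n k)
    (τσ : (Scheme.Modules.pullback σ).obj (O1 n k) ≅ O1 n k) (B : (Fin (n + 1) → k) →ₗ[k] Fin (n + 1) → k)
    (h : ∀ c, lin σ hσ τσ c = HypLib.lsec n (B c)) :
    ∃ Θ : (Scheme.Modules.pullback (r ≫ σ)).obj (O1 n k) ≅ L,
      ∀ c, lin (r ≫ σ) (by rw [Category.assoc, hσ, hr]) Θ c = lin r hr τ (B c) := by
  obtain ⟨Θ, hΘ⟩ := HypLib.exists_iso_comp r σ (O1 n k) τσ τ
  refine ⟨Θ, fun c => ?_⟩
  refine (hΘ (HypLib.lsec n c)).trans ?_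
  show τ.hom.app ⊤ (PicLib.pullSec r (U := ⊤) (lin σ hσ τσ c)) = _
  rw [h c]
  rfl

/-- A morphism of projective space given by a surjective substitution of linear forms. -/
theorem exists_map (B : (Fin (n + 1) → k) →ₗ[k] Fin (n + 1) → k) (hB : Function.Surjective B) :
    ∃ (σ : CohB1.ProjSpace n k ⟶ CohB1.ProjSpace n k)
      (hσ : σ ≫ CohB1.ProjSpace.toSpec n k = CohB1.ProjSpace.toSpec n k)
      (τ : (Scheme.Modules.pullback σ).obj (O1 n k) ≅ O1 n k), ∀ c, lin σ hσ τ c = HypLib.lsec n (B c) := by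
  classical
  obtain ⟨ι, hι⟩ := exists_lin_id (n := n) (k := k)
  obtain ⟨σ, hσ, τ, hτ⟩ := UPLib.exists_hom_projSpace n (CohB1.ProjSpace.toSpec n k)
    (HypLib.isInvertible_one n) (fun l => HypLib.lsec n (B (Pi.single l (1 : k)))) fun x => by
      obtain ⟨i, hi⟩ : ∃ i, x ∈ Proj.basicOpen (CohB1.polyGrading n k) (MvPolynomial.X i) :=
        Opens.mem_iSup.1 ((ProjLib.iSup_basicOpen_X n k).symm ▸ trivial)
      have hxi : x ∈ glocus (O1 n k) (lin (𝟙 _) (Category.id_comp _) ι (Pi.single i (1 : k))) := by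
        rw [lin_single, glocus_map_iso]
        exact (PnEmb.glocus_pullSec_twist_one (𝒮 := CohB1.polyGrading n k) (HypLib.hgen (R := k) n) (𝟙 _)
          (MvPolynomial.isHomogeneous_X k i)).ge hi
      obtain ⟨d, hd⟩ := hB (Pi.single i (1 : k))
      have hsum : lin (𝟙 _) (Category.id_comp _) ι (Pi.single i (1 : k)) =
          (∑ l, ProjUP.toGlobal (CohB1.ProjSpace.toSpec n k) (d l) •
            (show Γ(O1 n k, ⊤) from HypLib.lsec n (B (Pi.single l (1 : k)))) : Γ(O1 n k, ⊤)) := by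
        rw [← hd]
        conv_lhs => rw [pi_eq_sum_univ' d, map_sum, map_sum]
        refine Finset.sum_congr rfl fun l _ => ?_
        rw [map_smul, map_smul, hι]
        rfl
      rw [hsum] at hxi
      obtain ⟨l, -, hl⟩ := AlgGrpLib.AffineCombination.mem_glocus_sum _ (HypLib.isInvertible_one n) _ _ x hxi
      exact ⟨l, hl⟩
  refine ⟨σ, hσ, τ, fun c => ?_⟩
  have e : lin σ hσ τ = (lin (𝟙 _) (Category.id_comp _) ι).comp B := by
    refine (Pi.basisFun k (Fin (n + 1))).ext fun l => ?_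
    rw [Pi.basisFun_apply, LinearMap.comp_apply, lin_single]
    exact (hτ l).trans (hι _).symm
  rw [e, LinearMap.comp_apply, hι]

/-- Morphisms to projective space with the same linear forms are equal. -/
theorem eq_of_lin {r r' : X ⟶ CohB1.ProjSpace n k} {q : X ⟶ Spec (CommRingCat.of k)}
    (hr : r ≫ CohB1.ProjSpace.toSpec n k = q) (hr' : r' ≫ CohB1.ProjSpace.toSpec n k = q) {L : X.Modules}
    (τ : (Scheme.Modules.pullback r).obj (O1 n k) ≅ L) (τ' : (Scheme.Modules.pullback r').obj (O1 n k) ≅ L)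
    (h : ∀ i, lin r hr τ (Pi.single i 1) = lin r' hr' τ' (Pi.single i 1)) : r = r' := by
  refine UPLib.eq_of_iso_projSpace n (hr.trans hr'.symm) (τ ≪≫ τ'.symm) fun i => ?_
  have h' := h i
  rw [lin_single, lin_single] at h'
  show τ'.inv.app ⊤ (τ.hom.app ⊤ _) = _
  rw [h']
  show (τ'.hom ≫ τ'.inv).app ⊤ _ = _
  rw [τ'.hom_inv_id]
  rfl

/-- The automorphism of projective space given by a linear automorphism of linear forms. -/
theorem exists_aut (B : (Fin (n + 1) → k) ≃ₗ[k] Fin (n + 1) → k) :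
    ∃ (σ : CohB1.ProjSpace n k ≅ CohB1.ProjSpace n k)
      (hσ : σ.hom ≫ CohB1.ProjSpace.toSpec n k = CohB1.ProjSpace.toSpec n k)
      (τ : (Scheme.Modules.pullback σ.hom).obj (O1 n k) ≅ O1 n k), ∀ c, lin σ.hom hσ τ c = HypLib.lsec n (B c) := by
  obtain ⟨ι, hι⟩ := exists_lin_id (n := n) (k := k)
  obtain ⟨a, ha, τa, hτa⟩ := exists_map B.toLinearMap B.surjective
  obtain ⟨b, hb, τb, hτb⟩ := exists_map B.symm.toLinearMap B.symm.surjective
  refine ⟨⟨a, b, ?_, ?_⟩, ha, τa, hτa⟩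
  · obtain ⟨Θ, hΘ⟩ := exists_lin_comp a ha τa b hb τb B.symm.toLinearMap hτb
    refine eq_of_lin (by rw [Category.assoc, hb, ha]) (Category.id_comp _) Θ ι fun i => ?_
    rw [hΘ, hτa, hι]
    simp
  · obtain ⟨Θ, hΘ⟩ := exists_lin_comp b hb τb a ha τa B.toLinearMap hτa
    refine eq_of_lin (by rw [Category.assoc, ha, hb]) (Category.id_comp _) Θ ι fun i => ?_
    rw [hΘ, hτb, hι]
    simp

end Groth.Agent.ProjLin5
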